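import Mathlib

/-! Hermite normal form over `k[[X]]`. -/

namespace Groth.Agent.Hermite

open PowerSeries Matrix

variable {k : Type*} [Field k] {r : ℕ}

/-- row reduced -/
def IsRed (H : Matrix (Fin r) (Fin r) k⟦X⟧) (e : Fin r → ℕ) : Prop :=
  (∀ i, H i i = X ^ e i) ∧ (∀ i j, j < i → H i j = 0) ∧ ∀ i j, i < j → ∀ n, e j ≤ n → coeff n (H i j) = 0

lemma exists_split (w : k⟦X⟧) (e : ℕ) :
    ∃ c : k⟦X⟧, ∀ n, coeff n (w - c * X ^ e) = if e ≤ n then 0 else coeff n w := by
  refine ⟨mk fun n => coeff (n + e) w, fun n => ?_⟩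
  rw [map_sub, coeff_mul_X_pow']
  split_ifs with h
  · rw [coeff_mk, Nat.sub_add_cancel h, sub_self]
  · rw [sub_zero]

lemma det_ne_zero_of_isRed {H : Matrix (Fin r) (Fin r) k⟦X⟧} {e : Fin r → ℕ} (h : IsRed H e) : H.det ≠ 0 := by
  rw [Matrix.det_of_isUpperTriangular (fun i j hij => h.2.1 i j hij)]
  exact Finset.prod_ne_zero_iff.2 fun i _ => by rw [h.1]; exact pow_ne_zero _ X_ne_zero

theorem exists_isRed (M : Matrix (Fin r) (Fin r) k⟦X⟧) (hM : M.det ≠ 0) :
    ∃ (N H : Matrix (Fin r) (Fin r) k⟦X⟧) (e : Fin r → ℕ), IsUnit N ∧ N * M = H ∧ IsRed H e := by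
  classical
  let L : Submodule k⟦X⟧ (Fin r → k⟦X⟧) := LinearMap.range M.vecMulLinear
  let I : Fin r → Ideal k⟦X⟧ := fun i =>
    (L ⊓ ⨅ j ∈ {j | j < i}, LinearMap.ker (LinearMap.proj j)).map (LinearMap.proj i)
  have hmem : ∀ i x, x ∈ I i ↔ ∃ v ∈ L, (∀ j < i, v j = 0) ∧ v i = x := fun i x => by
    simp only [I, Submodule.mem_map, Submodule.mem_inf, Submodule.mem_iInf, LinearMap.mem_ker, LinearMap.proj_apply,
      Set.mem_setOf_eq, and_assoc]
  have hI : ∀ i, ∃ n : ℕ, I i = Ideal.span {X ^ n} := fun i => by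
    refine IsDiscreteValuationRing.ideal_eq_span_pow_irreducible (fun h => hM ?_) X_irreducible
    have : M.det ∈ I i := (hmem _ _).2 ⟨fun j => if j = i then M.det else 0, ⟨M.adjugate i, by
      funext j
      have := congrFun (congrFun M.adjugate_mul i) j
      rw [Matrix.mul_apply] at this
      simpa [Matrix.vecMulLinear, Matrix.vecMul, dotProduct, Matrix.one_apply, eq_comm] using this⟩,
      fun j hj => if_neg hj.ne, if_pos rfl⟩
    rw [h] at this
    exact this
  choose e he using hI
  have hv : ∀ i, ∃ v ∈ L, (∀ j < i, v j = 0) ∧ v i = X ^ e i := fun i =>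
    (hmem _ _).1 (by rw [he]; exact Ideal.mem_span_singleton_self _)
  -- reduced rows
  have hred : ∀ i : Fin r, ∀ m : ℕ, ∃ v ∈ L, (∀ j < i, v j = 0) ∧ v i = X ^ e i ∧
      ∀ j : Fin r, i < j → (j : ℕ) < m → ∀ n, e j ≤ n → coeff n (v j) = 0 := by
    intro i m
    induction m with
    | zero =>
      obtain ⟨v, h1, h2, h3⟩ := hv i
      exact ⟨v, h1, h2, h3, fun j _ hj => absurd hj (Nat.not_lt_zero _)⟩
    | succ m ih =>
      obtain ⟨v, h1, h2, h3, h4⟩ := ih
      by_cases hm : (i : ℕ) < m ∧ m < r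
      · let jm : Fin r := ⟨m, hm.2⟩
        obtain ⟨u, u1, u2, u3⟩ := hv jm
        obtain ⟨c, hc⟩ := exists_split (v jm) (e jm)
        refine ⟨v - c • u, L.sub_mem h1 (L.smul_mem c u1), fun j hj => ?_, ?_, fun j hij hj n hn => ?_⟩
        · simp [h2 j hj, u2 j (lt_trans hj hm.1)]
        · simp [h3, u2 i hm.1]
        · rcases Nat.lt_succ_iff_lt_or_eq.1 hj with hj' | hj'
          · simp only [Pi.sub_apply, Pi.smul_apply, u2 j hj', smul_zero, sub_zero]
            exact h4 j hij hj' n hn
          · obtain rfl : j = jm := Fin.ext hj'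
            simp only [Pi.sub_apply, Pi.smul_apply, u3, smul_eq_mul, hc, if_pos hn]
      · refine ⟨v, h1, h2, h3, fun j hij hj n hn => h4 j hij ?_ n hn⟩
        have := j.isLt; have : (i : ℕ) < j := hij; omega
  choose H hHL hH0 hHd hHu using fun i => hred i r
  choose A hA using hHL
  have hAM : Matrix.of A * M = Matrix.of H := Matrix.ext fun i j => congrFun (hA i) j
  have hspan : ∀ d, ∀ v ∈ L, (∀ j : Fin r, (j : ℕ) + d < r → v j = 0) → ∃ w, w ᵥ* Matrix.of H = v := by
    intro d
    induction d with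
    | zero =>
      intro v _ h0
      exact ⟨0, funext fun j => by simpa using (h0 j j.isLt).symm⟩
    | succ d ih =>
      intro v hv' h0
      by_cases hd : d < r
      · let i : Fin r := ⟨r - 1 - d, by omega⟩
        have : v i ∈ I i := (hmem _ _).2 ⟨v, hv', fun j hj => h0 j (by have : (j : ℕ) < r - 1 - d := hj; omega), rfl⟩
        rw [he, Ideal.mem_span_singleton] at this
        obtain ⟨c, hc⟩ := this
        obtain ⟨w, hw⟩ := ih (v - c • H i) (L.sub_mem hv' (L.smul_mem c ⟨A i, hA i⟩)) fun j hj => by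
          rcases eq_or_ne j i with rfl | hne
          · simp [hc, hHd, mul_comm]
          · have hne' : (j : ℕ) ≠ r - 1 - d := fun h => hne (Fin.ext h)
            have hji : j < i := show (j : ℕ) < r - 1 - d by omega
            simp [h0 j (by omega), hH0 i j hji]
        refine ⟨w + Pi.single i c, ?_⟩
        rw [Matrix.add_vecMul, hw]
        funext j
        simp [Matrix.vecMul, dotProduct, Pi.single_apply]
      · exact ih v hv' fun j hj => h0 j (by omega)
  choose B hB using fun i => hspan r (M i) ⟨Pi.single i 1, by simp; rfl⟩ (fun j hj => absurd hj (by omega))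
  have hBH : Matrix.of B * Matrix.of H = M := Matrix.ext fun i j => congrFun (hB i) j
  have hBA : Matrix.of B * Matrix.of A = 1 := by
    have h1 : (Matrix.of B * Matrix.of A - 1) * M = 0 := by rw [sub_mul, Matrix.mul_assoc, hAM, hBH, one_mul, sub_self]
    have h2 := congrArg (· * M.adjugate) h1
    simp only [Matrix.mul_assoc, Matrix.mul_adjugate, Matrix.mul_smul, Matrix.mul_one, Matrix.zero_mul] at h2
    exact sub_eq_zero.1 ((smul_eq_zero.1 h2).resolve_left hM)
  refine ⟨Matrix.of A, Matrix.of H, e, .of_mul_eq_one_right _ hBA, hAM, hHd, fun i j h => hH0 i j h,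
    fun i j h => hHu i j h j.isLt⟩

theorem isRed_unique {H H' : Matrix (Fin r) (Fin r) k⟦X⟧} {e e' : Fin r → ℕ} (h : IsRed H e) (h' : IsRed H' e')
    (U : Matrix (Fin r) (Fin r) k⟦X⟧) (hU : IsUnit U) (hUH : U * H = H') : H' = H := by
  classical
  have hne : ∀ i, H i i ≠ 0 := fun i => by rw [h.1]; exact pow_ne_zero _ X_ne_zero
  have htri : ∀ j i : Fin r, j < i → U i j = 0 := by
    intro j
    induction j using WellFoundedLT.induction with
    | ind j ih =>
      intro i hji
      have h0 := congrFun (congrFun hUH i) j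
      rw [h'.2.1 i j hji, Matrix.mul_apply, Finset.sum_eq_single j] at h0
      · exact (mul_eq_zero.1 h0).resolve_right (hne j)
      · intro l _ hl
        rcases lt_or_gt_of_ne hl with hl | hl
        · rw [ih l hl i (lt_trans hl hji), zero_mul]
        · rw [h.2.1 l j hl, mul_zero]
      · exact fun hh => absurd (Finset.mem_univ _) hh
  have hdiag : ∀ i, U i i * X ^ e i = X ^ e' i := fun i => by
    have h0 := congrFun (congrFun hUH i) i
    rw [h'.1, Matrix.mul_apply, Finset.sum_eq_single i] at h0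
    · rw [← h.1]; exact h0
    · intro l _ hl
      rcases lt_or_gt_of_ne hl with hl | hl
      · rw [htri l i hl, zero_mul]
      · rw [h.2.1 l i hl, mul_zero]
    · exact fun hh => absurd (Finset.mem_univ _) hh
  have hunit : ∀ i, IsUnit (U i i) := by
    have := (Matrix.isUnit_iff_isUnit_det U).1 hU
    rw [Matrix.det_of_isUpperTriangular (fun i j hij => htri j i hij)] at this
    exact fun i => isUnit_of_dvd_unit (Finset.dvd_prod_of_mem (fun i => U i i) (Finset.mem_univ i)) this
  have he : ∀ i, e i = e' i := fun i => by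
    have := congrArg PowerSeries.order (hdiag i)
    simp only [PowerSeries.order_mul, PowerSeries.order_X_pow] at this
    rw [PowerSeries.order_zero_of_unit (hunit i), zero_add] at this
    exact_mod_cast this
  have hone : ∀ i, U i i = 1 := fun i => by
    have := hdiag i
    rw [← he] at this
    exact mul_right_cancel₀ (pow_ne_zero _ X_ne_zero) (this.trans (one_mul _).symm)
  have hz : ∀ j i : Fin r, i < j → U i j = 0 := by
    intro j
    induction j using WellFoundedLT.induction with
    | ind j ih =>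
      intro i hij
      have h0 := congrFun (congrFun hUH i) j
      rw [Matrix.mul_apply, Finset.sum_eq_add i j hij.ne] at h0
      · rw [hone, one_mul, h.1] at h0
        ext n
        have h1 := congrArg (coeff (n + e j)) h0
        rw [map_add, coeff_mul_X_pow, h.2.2 i j hij _ (Nat.le_add_left _ _), zero_add,
          h'.2.2 i j hij _ (by rw [← he]; exact Nat.le_add_left _ _)] at h1
        rw [h1, map_zero]
      · intro l _ hl
        rcases lt_trichotomy l j with hlj | rfl | hlj
        · rcases lt_or_gt_of_ne hl.1 with hli | hli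
          · rw [htri l i hli, zero_mul]
          · rw [ih l hlj i hli, zero_mul]
        · exact absurd rfl hl.2
        · rw [h.2.1 l j hlj, mul_zero]
      all_goals exact fun hh => absurd (Finset.mem_univ _) hh
  have : U = 1 := Matrix.ext fun i j => by
    rcases lt_trichotomy i j with hij | rfl | hij
    · rw [hz j i hij, Matrix.one_apply_ne hij.ne]
    · rw [hone, Matrix.one_apply_eq]
    · rw [htri j i hij, Matrix.one_apply_ne hij.ne']
  rw [← hUH, this, one_mul]

/-- coefficients in degrees divisible by `p` -/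
theorem exists_congruent_split (p : ℕ) (w : k⟦X⟧) (a b : ℕ) :
    ∃ c d : k⟦X⟧, (∀ n, ¬ p ∣ n → coeff n c = 0) ∧
      ∀ n, (b ≤ n ∨ (a ≤ n ∧ n % p = a % p)) → coeff n (w + c * X ^ a - d * X ^ b) = 0 := by
  classical
  let c : k⟦X⟧ := mk fun m => if p ∣ m then - coeff (m + a) w else 0
  obtain ⟨d, hd⟩ := exists_split (w + c * X ^ a) b
  refine ⟨c, d, fun n hn => by rw [coeff_mk, if_neg hn], fun n hn => ?_⟩
  rw [hd]
  split_ifs with hb
  · rfl
  · obtain ⟨ha, hm⟩ := hn.resolve_left hb
    have hdvd : p ∣ n - a := (Nat.modEq_iff_dvd' ha).1 hm.symm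
    rw [map_add, coeff_mul_X_pow', if_pos ha, coeff_mk, if_pos hdvd, Nat.sub_add_cancel ha, add_neg_cancel]

theorem exists_congruent_red (p : ℕ) {H : Matrix (Fin r) (Fin r) k⟦X⟧} {e : Fin r → ℕ} (h : IsRed H e) :
    ∃ (U P R : Matrix (Fin r) (Fin r) k⟦X⟧), U.det = 1 ∧ P.det = 1 ∧ (∀ i j n, ¬ p ∣ n → coeff n (P i j) = 0) ∧
      H * P = U * R ∧ (∀ i, R i i = X ^ e i) ∧ (∀ i j, j < i → R i j = 0) ∧
      ∀ i j, i < j → ∀ n, (e j ≤ n ∨ (e i ≤ n ∧ n % p = e i % p)) → coeff n (R i j) = 0 := by
  classical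
  choose c d hc hcd using fun (a b : ℕ) (w : k⟦X⟧) => exists_congruent_split p w a b
  let idx : Fin r × Fin r → ℕ := fun a => (a.2 : ℕ) * r + (r - (a.1 : ℕ))
  have hi1 : ∀ i l j : Fin r, i < l → idx (l, j) < idx (i, j) := fun i l j hl => by
    simp only [idx]; have := l.isLt; have : (i : ℕ) < l := hl; omega
  have hi2 : ∀ i l j : Fin r, l < j → idx (i, l) < idx (i, j) := fun i l j hl => by
    simp only [idx]
    have : (l : ℕ) * r + r ≤ (j : ℕ) * r := by
      have : ((l : ℕ) + 1) * r ≤ (j : ℕ) * r := Nat.mul_le_mul_right r (show (l : ℕ) + 1 ≤ j from hl)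
      linarith
    have := i.isLt; omega
  -- the triple is (P, U, R)
  let F : (a : Fin r × Fin r) → (∀ b, idx b < idx a → k⟦X⟧ × k⟦X⟧ × k⟦X⟧) → k⟦X⟧ × k⟦X⟧ × k⟦X⟧ := fun a rec =>
    if a.2 < a.1 then (0, 0, 0) else if a.1 = a.2 then (1, 1, X ^ e a.1) else
      let g : Fin r × Fin r → k⟦X⟧ × k⟦X⟧ × k⟦X⟧ := fun b => if hb : idx b < idx a then rec b hb else 0
      let w := (∑ l ∈ Finset.univ.filter fun l => a.1 < l, H a.1 l * (g (l, a.2)).1) -
        ∑ l ∈ Finset.univ.filter fun l => a.1 < l ∧ l < a.2, (g (a.1, l)).2.1 * (g (l, a.2)).2.2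
      (c (e a.1) (e a.2) w, d (e a.1) (e a.2) w, w + c (e a.1) (e a.2) w * X ^ e a.1 - d (e a.1) (e a.2) w * X ^ e a.2)
  let f : Fin r × Fin r → k⟦X⟧ × k⟦X⟧ × k⟦X⟧ := (InvImage.wf idx Nat.lt_wfRel.wf).fix F
  have hf : ∀ a, f a = F a (fun b _ => f b) := fun a => WellFounded.fix_eq _ _ a
  let P : Matrix (Fin r) (Fin r) k⟦X⟧ := fun i j => (f (i, j)).1
  let U : Matrix (Fin r) (Fin r) k⟦X⟧ := fun i j => (f (i, j)).2.1
  let R : Matrix (Fin r) (Fin r) k⟦X⟧ := fun i j => (f (i, j)).2.2
  have hlo : ∀ i j, j < i → f (i, j) = (0, 0, 0) := fun i j hij => by rw [hf]; exact if_pos hij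
  have hdi : ∀ i, f (i, i) = (1, 1, X ^ e i) := fun i => by
    rw [hf]; exact (if_neg (lt_irrefl i)).trans (if_pos rfl)
  have hup : ∀ i j, i < j → ∃ w : k⟦X⟧, w = (∑ l ∈ Finset.univ.filter fun l => i < l, H i l * P l j) -
        (∑ l ∈ Finset.univ.filter fun l => i < l ∧ l < j, U i l * R l j) ∧
      f (i, j) = (c (e i) (e j) w, d (e i) (e j) w, w + c (e i) (e j) w * X ^ e i - d (e i) (e j) w * X ^ e j) := by
    intro i j hij
    refine ⟨_, rfl, ?_⟩
    conv_lhs => rw [hf]
    dsimp only [F]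
    rw [if_neg (not_lt.2 hij.le), if_neg hij.ne]
    have e1 : (∑ l ∈ Finset.univ.filter fun l => i < l, H i l * (if hb : idx (l, j) < idx (i, j) then f (l, j) else 0).1) =
        ∑ l ∈ Finset.univ.filter fun l => i < l, H i l * P l j :=
      Finset.sum_congr rfl fun l hl => by rw [dif_pos (hi1 i l j (Finset.mem_filter.1 hl).2)]
    have e2 : (∑ l ∈ Finset.univ.filter fun l => i < l ∧ l < j,
        (if hb : idx (i, l) < idx (i, j) then f (i, l) else 0).2.1 *
          (if hb : idx (l, j) < idx (i, j) then f (l, j) else 0).2.2) =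
        ∑ l ∈ Finset.univ.filter fun l => i < l ∧ l < j, U i l * R l j :=
      Finset.sum_congr rfl fun l hl => by
        rw [dif_pos (hi2 i l j (Finset.mem_filter.1 hl).2.2), dif_pos (hi1 i l j (Finset.mem_filter.1 hl).2.1)]
    rw [e1, e2]
  have hUd : ∀ i, U i i = 1 := fun i => by simp [U, hdi]
  have hPd : ∀ i, P i i = 1 := fun i => by simp [P, hdi]
  have hUl : ∀ i j, j < i → U i j = 0 := fun i j hij => by simp [U, hlo i j hij]
  have hPl : ∀ i j, j < i → P i j = 0 := fun i j hij => by simp [P, hlo i j hij]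
  have hRl : ∀ i j, j < i → R i j = 0 := fun i j hij => by simp [R, hlo i j hij]
  have hRd : ∀ i, R i i = X ^ e i := fun i => by simp [R, hdi]
  refine ⟨U, P, R, ?_, ?_, ?_, ?_, hRd, hRl, ?_⟩
  · rw [Matrix.det_of_isUpperTriangular (fun i j hij => hUl i j hij)]; simp [hUd]
  · rw [Matrix.det_of_isUpperTriangular (fun i j hij => hPl i j hij)]; simp [hPd]
  · intro i j n hn
    rcases lt_trichotomy i j with hij | rfl | hij
    · obtain ⟨w, -, hw⟩ := hup i j hij
      simp only [P, hw]; exact hc _ _ _ n hn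
    · rw [hPd, coeff_one, if_neg (fun h => hn (by simp [h]))]
    · rw [hPl i j hij, map_zero]
  · ext1 i j
    rw [Matrix.mul_apply, Matrix.mul_apply]
    rcases lt_trichotomy i j with hij | rfl | hij
    · obtain ⟨w, hw', hw⟩ := hup i j hij
      have eL : ∑ l, H i l * P l j = H i i * P i j + ∑ l ∈ Finset.univ.filter fun l => i < l, H i l * P l j := by
        rw [← Finset.add_sum_erase _ _ (Finset.mem_univ i)]
        congr 1
        refine (Finset.sum_subset (fun l hl => Finset.mem_erase.2 ⟨(Finset.mem_filter.1 hl).2.ne', Finset.mem_univ l⟩)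
          fun l hl hl' => ?_).symm
        have : ¬ i < l := fun hh => hl' (Finset.mem_filter.2 ⟨Finset.mem_univ l, hh⟩)
        rw [h.2.1 i l (lt_of_le_of_ne (not_lt.1 this) (Finset.mem_erase.1 hl).1), zero_mul]
      have eR : ∑ l, U i l * R l j = U i i * R i j + (U i j * R j j +
          ∑ l ∈ Finset.univ.filter fun l => i < l ∧ l < j, U i l * R l j) := by
        rw [← Finset.add_sum_erase _ _ (Finset.mem_univ i),
          ← Finset.add_sum_erase (Finset.univ.erase i) _ (Finset.mem_erase.2 ⟨hij.ne', Finset.mem_univ j⟩)]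
        congr 2
        refine (Finset.sum_subset (fun l hl => ?_) fun l hl hl' => ?_).symm
        · obtain ⟨h1, h2⟩ := (Finset.mem_filter.1 hl).2
          simp [h1.ne', h2.ne]
        · simp only [Finset.mem_erase, Finset.mem_univ, and_true] at hl
          simp only [Finset.mem_filter, Finset.mem_univ, true_and, not_and, not_lt] at hl'
          rcases lt_or_gt_of_ne hl.2 with hli | hli
          · rw [hUl i l hli, zero_mul]
          · rw [hRl l j (lt_of_le_of_ne (hl' hli) hl.1.symm), mul_zero]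
      rw [eL, eR, h.1, hUd, hRd]
      simp only [P, U, R] at *
      rw [hw]
      simp only []
      linear_combination -hw'
    · rw [Finset.sum_eq_single i, Finset.sum_eq_single i, h.1, hPd, hUd, hRd, mul_one, one_mul]
      · intro l _ hl
        rcases lt_or_gt_of_ne hl with hl | hl
        · rw [hUl i l hl, zero_mul]
        · rw [hRl l i hl, mul_zero]
      · exact fun hh => absurd (Finset.mem_univ _) hh
      · intro l _ hl
        rcases lt_or_gt_of_ne hl with hl | hl
        · rw [h.2.1 i l hl, zero_mul]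
        · rw [hPl l i hl, mul_zero]
      · exact fun hh => absurd (Finset.mem_univ _) hh
    · rw [Finset.sum_eq_zero, Finset.sum_eq_zero]
      · intro l _
        rcases lt_or_ge l i with hl | hl
        · rw [hUl i l hl, zero_mul]
        · rw [hRl l j (lt_of_lt_of_le hij hl), mul_zero]
      · intro l _
        rcases lt_or_ge l i with hl | hl
        · rw [h.2.1 i l hl, zero_mul]
        · rw [hPl l j (lt_of_lt_of_le hij hl), mul_zero]
  · intro i j hij n hn
    obtain ⟨w, -, hw⟩ := hup i j hij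
    simp only [R, hw]
    exact hcd _ _ _ n hn

end Groth.Agent.Hermite
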